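import Cfsg.Agent.Lib.Syl2EA.Lin
import Cfsg.Agent.Lib.BF.DerLen
import Cfsg.Prelude.Def_Transfer

/-! Abstract wreath models of Sylow subgroups: normal rank and derived length. -/

set_option autoImplicit false

namespace CfsgLib.SylWr

open Subgroup CfsgLib.LAE CfsgLib.Syl2EA Equiv
open scoped commutatorElement

universe u

variable {G X ι D E : Type*} [Group G] [Group X] [Group D] [Group E]

/-- `X` is `(D ≀ T) × E` -/
structure WM (T : Subgroup (Perm ι)) (δ : (ι → D) × E →* X) (ψ : T →* X) : Prop where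
  inj : Function.Injective δ
  conj : ∀ σ g e, ψ σ * δ (g, e) * (ψ σ)⁻¹ = δ (g ∘ σ.1.symm, e)
  gen : ∀ x, ∃ w σ, x = δ w * ψ σ

theorem exists_wm {p : ℕ} [Fact p.Prime] [Finite G] {δ : (ι → D) × E →* G} {ψ : Perm ι →* G}
    (h : Wr δ ψ) {T : Subgroup (Perm ι)} (hS : IsSylowIn p ((⊤ ⊓ δ.range) ⊔ T.map ψ) ⊤)
    {K : Type*} [Group K] (e : K ≃* G) (P : Sylow p K) :
    ∃ (δ' : (ι → D) × E →* (P : Subgroup K)) (ψ' : T →* (P : Subgroup K)), WM T δ' ψ' := by
  have : Finite K := Finite.of_equiv _ e.symm.toEquiv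
  have h1 := (isSylowIn_top P).map e.toMonoidHom
  rw [map_top_of_surjective _ e.surjective] at h1
  obtain ⟨g, -, hg⟩ := hS.exists_conj h1
  rw [top_inf_eq] at hg
  set φ : G ≃* K := (MulAut.conj g).trans e.symm with hφ
  have h2 : ∀ x, φ x ∈ (P : Subgroup K) ↔ x ∈ δ.range ⊔ T.map ψ := by
    intro x
    rw [← mem_map_iff_mem (f := e.toMonoidHom) e.injective, ← hg, conjS_def,
      ← mem_map_iff_mem (f := (MulAut.conj g).toMonoidHom) (MulAut.conj g).injective (x := x)]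
    simp [hφ]
  refine ⟨(φ.toMonoidHom.comp δ).codRestrict _ fun w => (h2 _).2 (mem_sup_left ⟨w, rfl⟩),
    (φ.toMonoidHom.comp (ψ.comp T.subtype)).codRestrict _ fun σ =>
      (h2 _).2 (mem_sup_right ⟨σ, σ.2, rfl⟩), fun a b hab => h.inj (φ.injective (congrArg Subtype.val hab)),
    fun σ a b => Subtype.ext ?_, fun x => ?_⟩
  · change φ (ψ σ) * φ (δ (a, b)) * (φ (ψ σ))⁻¹ = φ (δ _)
    rw [← h.conj, map_mul, map_mul, map_inv]
  · have h3 := (h2 (φ.symm x)).1 (by simp)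
    have h4 : T.map ψ ≤ normalizer (δ.range : Set G) := by
      rintro _ ⟨σ, -, rfl⟩; exact h.mem_normalizer σ
    rw [← SetLike.mem_coe, coe_mul_of_right_le_normalizer_left _ _ h4] at h3
    obtain ⟨_, ⟨w, rfl⟩, _, ⟨σ, hσ, rfl⟩, h5⟩ := h3
    refine ⟨w, ⟨σ, hσ⟩, Subtype.ext ?_⟩
    change _ = φ (δ w) * φ (ψ σ)
    rw [← map_mul, show δ w * ψ σ = _ from h5, MulEquiv.apply_symm_apply]

variable {T : Subgroup (Perm ι)} {δ : (ι → D) × E →* X} {ψ : T →* X}

theorem ea_map {A : Subgroup G} (hA : Cfsg.IsElementaryAbelian 2 A) (f : G →* X) :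
    Cfsg.IsElementaryAbelian 2 (A.map f) := by
  have := hA.1
  refine ⟨inferInstance, ?_⟩
  rintro _ ⟨a, ha, rfl⟩
  rw [← map_pow, hA.2 a ha, map_one]

theorem ea_of_sq {A : Subgroup G} (h : ∀ a ∈ A, a ^ 2 = 1) : Cfsg.IsElementaryAbelian 2 A := by
  have h1 : ∀ a ∈ A, a⁻¹ = a := fun a ha => inv_eq_of_mul_eq_one_right (by rw [← pow_two, h a ha])
  refine ⟨⟨⟨fun a b => Subtype.ext ?_⟩⟩, h⟩
  change (a : G) * b = b * a
  rw [← h1 _ (mul_mem a.2 b.2), mul_inv_rev, h1 _ a.2, h1 _ b.2]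

theorem WM.lower [Finite ι] (h : WM T δ ψ) (N : Subgroup D) [hN : N.Normal] (hN2 : ∀ a ∈ N, a ^ 2 = 1)
    (M : Subgroup E) [M.Normal] (hM2 : ∀ a ∈ M, a ^ 2 = 1) :
    ∃ A : Subgroup X, A.Normal ∧ Cfsg.IsElementaryAbelian 2 A ∧
      Nat.card A = Nat.card N ^ Nat.card ι * Nat.card M := by
  have h0 : (Subgroup.pi Set.univ fun _ : ι => N).Normal :=
    ⟨fun a ha g i hi => hN.conj_mem _ (ha i hi) _⟩
  refine ⟨((Subgroup.pi Set.univ fun _ : ι => N).prod M).map δ, ⟨?_⟩, ea_map (ea_of_sq ?_) δ, ?_⟩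
  · rintro _ ⟨⟨a, b⟩, hab, rfl⟩ x
    obtain ⟨w, σ, rfl⟩ := h.gen x
    rw [show δ w * ψ σ * δ (a, b) * (δ w * ψ σ)⁻¹ = δ w * (ψ σ * δ (a, b) * (ψ σ)⁻¹) * (δ w)⁻¹ by group,
      h.conj, ← map_inv, ← map_mul, ← map_mul]
    refine mem_map_of_mem _ (Normal.conj_mem inferInstance _ ?_ _)
    exact ⟨fun i hi => hab.1 _ trivial, hab.2⟩
  · rintro ⟨a, b⟩ hab
    exact Prod.ext (funext fun i => hN2 _ (hab.1 i trivial)) (hM2 _ hab.2)
  · rw [card_map_of_injective h.inj, Nat.card_congr (prodEquiv _ _).toEquiv, Nat.card_prod, ← Nat.card_fun]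
    congr 1
    exact Nat.card_congr ⟨fun a i => ⟨a.1 i, a.2 i trivial⟩, fun a => ⟨fun i => a i, fun i _ => (a i).2⟩,
      fun _ => rfl, fun _ => rfl⟩

theorem WM.upper [Finite ι] [Finite D] [Finite E] (h : WM T δ ψ) (hd : ∃ d : D, d ^ 2 ≠ 1) {a b : ℕ}
    (hD : ∀ N : Subgroup D, N.Normal → (∀ x ∈ N, x ^ 2 = 1) → Nat.card N ≤ a)
    (hE : ∀ M : Subgroup E, (∀ x ∈ M, x ^ 2 = 1) → Nat.card M ≤ b)
    (A : Subgroup X) (hA : A.Normal) (hA2 : ∀ x ∈ A, x ^ 2 = 1) : Nat.card A ≤ a ^ Nat.card ι * b := by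
  classical
  obtain ⟨d, hd⟩ := hd
  have h1 : A ≤ δ.range := by
    intro x hx
    obtain ⟨w, σ, rfl⟩ := h.gen x
    by_cases hσ : σ = 1
    · exact ⟨w, by simp [hσ]⟩
    obtain ⟨i, hi⟩ : ∃ i, σ.1.symm i ≠ i := by
      by_contra hc
      push Not at hc
      exact hσ (Subtype.ext (inv_eq_one.1 (Equiv.ext hc)))
    have h2 := hA2 _ (mul_mem (hA.conj_mem _ hx (δ (Pi.mulSingle i d, 1))) (inv_mem hx))
    rw [show δ (Pi.mulSingle i d, 1) * (δ w * ψ σ) * (δ (Pi.mulSingle i d, 1))⁻¹ * (δ w * ψ σ)⁻¹ =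
      δ (Pi.mulSingle i d, 1) * δ w * (ψ σ * δ (Pi.mulSingle i d, 1) * (ψ σ)⁻¹)⁻¹ * (δ w)⁻¹ by group,
      h.conj, ← map_inv, ← map_inv, ← map_mul, ← map_mul, ← map_mul, ← map_pow, ← map_one δ] at h2
    have h3 := congrFun (congrArg Prod.fst (h.inj h2)) i
    simp [Pi.mulSingle_eq_of_ne hi] at h3
    exact absurd h3 hd
  set B := A.comap δ
  have hB : ∀ x ∈ B, x ^ 2 = 1 := fun x hx => h.inj (by rw [map_pow, hA2 _ hx, map_one])
  have h2 : Nat.card A = Nat.card B := by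
    rw [← card_map_of_injective (K := B) h.inj, map_comap_eq_self h1]
  have key : ∀ {Y : Type _} [Group Y] (f : (ι → D) × E →* Y), ∀ x ∈ B.map f, x ^ 2 = 1 := by
    rintro Y _ f _ ⟨y, hy, rfl⟩
    rw [← map_pow, hB y hy, map_one]
  set π : ι → ((ι → D) × E →* D) := fun i => (Pi.evalMonoidHom _ i).comp (MonoidHom.fst _ _)
  have h3 : Nat.card B ≤ Nat.card ((∀ i, B.map (π i)) × B.map (MonoidHom.snd _ _)) :=
    Nat.card_le_card_of_injective (fun x => (fun i => ⟨_, mem_map_of_mem _ x.2⟩, ⟨_, mem_map_of_mem _ x.2⟩))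
      fun x y e => Subtype.ext (Prod.ext
        (funext fun i => congrArg Subtype.val (congrFun (congrArg Prod.fst e) i))
        (congrArg Subtype.val (congrArg Prod.snd e)))
  have := Fintype.ofFinite ι
  rw [Nat.card_prod, Nat.card_pi] at h3
  refine h2.trans_le (h3.trans (Nat.mul_le_mul ?_ (hE _ fun x hx => ?_)))
  · rw [Nat.card_eq_fintype_card (α := ι), ← Finset.card_univ]
    exact Finset.prod_le_pow_card _ _ _ fun i _ => hD _
      (Normal.map inferInstance _ fun y => ⟨(fun _ => y, 1), rfl⟩) (key _)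
  · obtain ⟨y, hy, rfl⟩ := hx
    rw [← map_pow, hB y hy, map_one]

/-- a faithful monomial representation of `Y` over `D` -/
structure Mon (Y κ D : Type*) [Group Y] [Group D] where
  s : Y → κ → κ
  a : Y → κ → D
  s_one : ∀ i, s 1 i = i
  s_mul : ∀ y z i, s (y * z) i = s y (s z i)
  a_mul : ∀ y z i, a (y * z) i = a y (s z i) * a z i
  faith : ∀ y, (∀ i, s y i = i) → (∀ i, a y i = 1) → y = 1

theorem Mon.a_one {Y κ : Type*} [Group Y] (m : Mon Y κ D) (i : κ) : m.a 1 i = 1 := by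
  have := m.a_mul 1 1 i
  rw [one_mul, m.s_one] at this
  exact mul_eq_left.1 this.symm

theorem Mon.exists_hom {Y : Type*} [Group Y] (m : Mon Y ι D) {δ : (ι → D) × E →* G} {ψ : Perm ι →* G}
    (h : Wr δ ψ) : ∃ f : Y →* G, Function.Injective f := by
  letI : MulAction Y ι := { smul := m.s, one_smul := m.s_one, mul_smul := m.s_mul }
  set s := MulAction.toPermHom Y ι
  refine ⟨MonoidHom.mk' (fun y => ψ (s y) * δ (m.a y, 1)) fun y z => ?_,
    (injective_iff_map_eq_one _).2 fun y hy => ?_⟩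
  · have := h.conj (s z)⁻¹ (m.a y) 1
    rw [map_inv, inv_inv] at this
    rw [show ψ (s y) * δ (m.a y, 1) * (ψ (s z) * δ (m.a z, 1)) =
      ψ (s y) * ψ (s z) * (((ψ (s z))⁻¹ * δ (m.a y, 1) * ψ (s z)) * δ (m.a z, 1)) by group, this,
      ← map_mul, ← map_mul, ← map_mul]
    congr 2
    exact Prod.ext (funext fun i => m.a_mul y z i) (one_mul 1).symm
  · have h1 : s y = 1 := h.disj _ (m.a y, 1)⁻¹ (by rw [map_inv]; exact eq_inv_of_mul_eq_one_left hy)
    rw [MonoidHom.mk'_apply, h1, map_one, one_mul, ← map_one δ] at hy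
    exact m.faith y (fun i => Equiv.congr_fun h1 i) fun i => congrFun (congrArg Prod.fst (h.inj hy)) i

/-- the wreath product -/
def Mon.wr {Y κ : Type*} [Group Y] [Nonempty κ] (m : Mon Y κ D) (Q : Type*) [Group Q] :
    Mon (Y ≀ᵣ Q) (κ × Q) D where
  s y i := (m.s (y.left (y.right * i.2)) i.1, y.right * i.2)
  a y i := m.a (y.left (y.right * i.2)) i.1
  s_one i := by simp [m.s_one]
  s_mul y z i := by simp [m.s_mul, mul_assoc]
  a_mul y z i := by simp [m.a_mul, mul_assoc]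
  faith y h1 h2 := by
    obtain ⟨i⟩ := ‹Nonempty κ›
    have h3 : y.right = 1 := by simpa using congrArg Prod.snd (h1 (i, 1))
    refine RegularWreathProduct.ext (funext fun q => m.faith _ (fun j => ?_) fun j => ?_) h3
    · simpa [h3] using congrArg Prod.fst (h1 (j, q))
    · simpa [h3] using h2 (j, q)

/-- extension to a larger index set -/
def Mon.ext {Y κ ρ : Type*} [Group Y] (m : Mon Y κ D) (e : ι ≃ κ ⊕ ρ) : Mon Y ι D where
  s y i := e.symm (Sum.map (m.s y) id (e i))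
  a y i := Sum.elim (m.a y) 1 (e i)
  s_one i := by rw [Equiv.symm_apply_eq]; rcases e i with j | j <;> simp [m.s_one]
  s_mul y z i := by rcases e i with j | j <;> simp [m.s_mul]
  a_mul y z i := by rcases e i with j | j <;> simp [m.a_mul]
  faith y h1 h2 := m.faith y (fun j => by simpa using h1 (e.symm (.inl j)))
    fun j => by simpa using h2 (e.symm (.inl j))

theorem exists_mon {D : Type u} [Group D] [Finite D] (hD : IsPGroup 2 D) {j : ℕ}
    (hj : derivedSeries D j ≠ ⊥) (k : ℕ) :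
    ∃ (Y : Type u) (_ : Group Y) (κ : Type), Finite Y ∧ IsPGroup 2 Y ∧ Nat.card κ = 2 ^ k ∧
      derivedSeries Y (j + k) ≠ ⊥ ∧ Nonempty (Mon Y κ D) := by
  induction k with
  | zero => exact ⟨D, inferInstance, Unit, inferInstance, hD, by simp, hj,
      ⟨⟨fun _ i => i, fun y _ => y, fun _ => rfl, fun _ _ _ => rfl, fun _ _ _ => rfl, fun _ _ h => h ()⟩⟩⟩
  | succ k ih =>
    obtain ⟨Y, _, κ, _, hY, hκ, hk, ⟨m⟩⟩ := ih
    have : Nonempty κ := (Nat.card_pos_iff.1 (by rw [hκ]; positivity)).1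
    obtain ⟨a, ha⟩ := IsPGroup.iff_card.mp hY
    refine ⟨Y ≀ᵣ Multiplicative (ZMod 2), inferInstance, κ × Multiplicative (ZMod 2), inferInstance,
      IsPGroup.of_card (n := a * 2 + 1) ?_, by simp [hκ, pow_succ], BF.der_wreath hk, ⟨m.wr _⟩⟩
    rw [RegularWreathProduct.card, ha]
    simp [pow_succ, pow_mul]

theorem der_sylow [Finite G] [Finite ι] [Finite D] {δ : (ι → D) × E →* G} {ψ : Perm ι →* G}
    (h : Wr δ ψ) (hD : IsPGroup 2 D) {j : ℕ} (hj : derivedSeries D j ≠ ⊥) {k : ℕ}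
    (hk : 2 ^ k ≤ Nat.card ι) {K : Type*} [Group K] (e : K ≃* G) (P : Sylow 2 K) :
    derivedSeries (P : Subgroup K) (j + k) ≠ ⊥ := by
  have : Finite K := Finite.of_equiv _ e.symm.toEquiv
  obtain ⟨Y, _, κ, _, hY, hκ, hk', ⟨m⟩⟩ := exists_mon hD hj k
  have : Finite κ := (Nat.card_pos_iff.1 (by rw [hκ]; positivity)).2
  obtain ⟨e'⟩ : Nonempty (ι ≃ κ ⊕ Fin (Nat.card ι - 2 ^ k)) := Finite.card_eq.1 (by simp [hκ]; omega)
  obtain ⟨f', hf'⟩ := (m.ext e').exists_hom h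
  set f := e.symm.toMonoidHom.comp f'
  have hf : Function.Injective f := e.symm.injective.comp hf'
  obtain ⟨Q, hQ⟩ := (hY.of_surjective f.rangeRestrict f.rangeRestrict_surjective).exists_le_sylow
  exact BF.der_ne_bot_of_injective (f := (Q.equiv P).toMonoidHom.comp
    ((Subgroup.inclusion hQ).comp f.rangeRestrict)) ((Q.equiv P).injective.comp
      ((Subgroup.inclusion_injective hQ).comp fun a b h => hf (congrArg Subtype.val h))) hk'

end CfsgLib.SylWr
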