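import Cfsg.Agent.Lib.SylWr.Abs
import Cfsg.Agent.Lib.Syl2EA.GL
import Cfsg.Agent.Lib.Inv2.Diag
import Cfsg.Agent.Lib.TwoGrp.QD2

/-! Wreath models of the Sylow 2-subgroups of `GL_n(q)` and `Sp_{2n}(q)`, `q` odd. -/

set_option autoImplicit false

namespace CfsgLib.SylWr

open Subgroup CfsgLib.LAE CfsgLib.Syl2EA Module Matrix
open Equiv (Perm)
open scoped MatrixGroups

universe u

variable {F : Type u} [Field F]

theorem sp_model [Fintype F] (hF : Odd (Fintype.card F)) (n : ℕ) (Q : Sylow 2 SL(2, F))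
    (T : Sylow 2 (Perm (Fin n))) :
    ∃ (G : Type u) (_ : Group G) (_ : Finite G) (δ : (Fin n → (Q : Subgroup SL(2, F))) × PUnit.{1} →* G)
      (ψ : Perm (Fin n) →* G), Nonempty (symplecticGroup (Fin n) F ≃* G) ∧ Wr δ ψ ∧
      IsSylowIn 2 ((⊤ ⊓ δ.range) ⊔ (T : Subgroup (Perm (Fin n))).map ψ) ⊤ := by
  classical
  have hq1 : 1 < Fintype.card F := Fintype.one_lt_card
  set f := (linCongr (spE n F)).toMonoidHom.comp (Forms.matEquiv (symplecticGroup (Fin n) F).subtype)
  have hf : Function.Injective f :=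
    (linCongr _).injective.comp (Forms.matEquiv_injective _ Subtype.val_injective)
  have hr : ∀ g, (∀ v w : (Fin n → Fin 2 → F) × PUnit.{1}, ∑ i, ((g v).1 i 1 * (g w).1 i 0 - (g v).1 i 0 * (g w).1 i 1) =
      ∑ i, (v.1 i 1 * w.1 i 0 - v.1 i 0 * w.1 i 1)) → g ∈ f.range := by
    intro g hg
    obtain ⟨A, hA⟩ := Forms.exists_sp_of_linearMap (l := Fin n) (F := F)
      (linCongr (spE n F).symm g).toLinearMap ((Forms.spPQ_isIso _ _ _).2 fun x y => by
        change Forms.spB _ _ ((spE n F).symm (g (spE n F x))) ((spE n F).symm (g (spE n F y))) = _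
        rw [spB_spE, hg, ← spB_spE, LinearEquiv.symm_apply_apply, LinearEquiv.symm_apply_apply])
    refine ⟨A, LinearEquiv.ext fun v => ?_⟩
    change spE n F ((A : Matrix _ _ F) *ᵥ (spE n F).symm v) = _
    rw [hA]
    change spE n F ((spE n F).symm (g (spE n F ((spE n F).symm v)))) = _
    simp
  have hw := (wr_lin (F := F) (ι := Fin n) (U := Fin 2 → F) (R := PUnit)).comp
    (Forms.glEquiv.toMonoidHom.comp (SpecialLinearGroup.toGL.comp (Q : Subgroup SL(2, F)).subtype))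
    (1 : PUnit.{1} →* _)
    (Forms.glEquiv.injective.comp (SpecialLinearGroup.toGL_injective.comp Subtype.val_injective))
    (Function.injective_of_subsingleton _)
  generalize hδ : MonoidHom.comp (lδ F (Fin n) (Fin 2 → F) PUnit)
    (_ : (Fin n → (Q : Subgroup SL(2, F))) × PUnit.{1} →* _) = δ at hw
  have h1 : ∀ w, δ w ∈ f.range := fun g => hr _ fun v w => Finset.sum_congr rfl fun i _ => by
    have := (g.1 i).1.det_coe
    rw [det_fin_two] at this
    rw [← hδ]
    change ((g.1 i).1.1 *ᵥ v.1 i) 1 * ((g.1 i).1.1 *ᵥ w.1 i) 0 -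
      ((g.1 i).1.1 *ᵥ v.1 i) 0 * ((g.1 i).1.1 *ᵥ w.1 i) 1 = _
    simp only [mulVec, dotProduct, Fin.sum_univ_two]
    linear_combination (v.1 i 1 * w.1 i 0 - v.1 i 0 * w.1 i 1) * this
  have h2 : ∀ σ, lψ F (Fin n) (Fin 2 → F) PUnit σ ∈ f.range := fun σ => hr _ fun v w =>
    Equiv.sum_comp σ.symm fun i => v.1 i 1 * w.1 i 0 - v.1 i 0 * w.1 i 1
  have hw' : Wr (δ.codRestrict _ h1) ((lψ F (Fin n) (Fin 2 → F) PUnit).codRestrict _ h2) :=
    Wr.of_comp f.range.subtype Subtype.val_injective hw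
  have : Finite f.range := Finite.of_equiv _ (f.ofInjective hf).toEquiv
  exact ⟨f.range, inferInstance, this, _, _, ⟨f.ofInjective hf⟩, hw',
    hw'.sylow Q.isPGroup' (IsPGroup.of_card (n := 0) (by simp)) T (by
    rw [← Nat.card_congr (f.ofInjective hf).toEquiv, Symp.card_sp, factorization_card_sylow,
      Classical.sl2_card, Nat.factorization_mul (by positivity) (prod_sub_one_ne hq1 n),
      Nat.factorization_mul (b := _ ^ 2 - 1) (by positivity) (pow_sub_one_ne hq1 1), Finsupp.add_apply, Finsupp.add_apply,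
      val_pow_odd hF, val_prod_even hF hq1, Nat.card_eq_fintype_card, Fintype.card_fin, mul_add]
    omega) ⊤ fun _ => mem_top _⟩

theorem gl_model [Fintype F] (hF : Odd (Fintype.card F)) {m n : ℕ} (hn : n ≤ 1)
    (R : Sylow 2 (GL (Fin 2) F)) (C : Sylow 2 Fˣ) (T : Sylow 2 (Perm (Fin m)))
    (P : Sylow 2 (GL (Fin (2 * m + n)) F)) :
    ∃ (δ : (Fin m → (R : Subgroup (GL (Fin 2) F))) × (Fin n → (C : Subgroup Fˣ)) →*
      (P : Subgroup (GL (Fin (2 * m + n)) F))) (ψ : _), WM (T : Subgroup (Perm (Fin m))) δ ψ := by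
  classical
  have hq1 : 1 < Fintype.card F := Fintype.one_lt_card
  obtain ⟨e⟩ : Nonempty ((Fin (2 * m + n) → F) ≃ₗ[F] ((Fin m → Fin 2 → F) × (Fin n → F))) :=
    ⟨LinearEquiv.ofFinrankEq _ _ (by simp [finrank_pi_fintype, mul_comm])⟩
  have hw := (wr_lin (F := F) (ι := Fin m) (U := Fin 2 → F) (R := Fin n → F)).comp
    (Forms.glEquiv.toMonoidHom.comp (R : Subgroup (GL (Fin 2) F)).subtype)
    (Forms.glEquiv.toMonoidHom.comp ((dg n F).comp ((C : Subgroup Fˣ).subtype.compLeft (Fin n))))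
    (Forms.glEquiv.injective.comp Subtype.val_injective)
    (Forms.glEquiv.injective.comp (dg_injective.comp Subtype.val_injective.comp_left))
  have e' := Forms.glEquiv.trans (linCongr e)
  have : Finite (((Fin m → Fin 2 → F) × (Fin n → F)) ≃ₗ[F] ((Fin m → Fin 2 → F) × (Fin n → F))) :=
    Finite.of_equiv _ e'.toEquiv
  exact exists_wm hw (hw.sylow R.isPGroup' (isPGroup_pi C.isPGroup') T (by
    rw [← Nat.card_congr e'.toEquiv, val_gl hF, factorization_card_sylow, val_gl2 hF, Nat.card_fun,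
      Nat.factorization_pow, Finsupp.smul_apply, factorization_card_sylow, Classical.sl_card_units]
    simp only [Nat.card_eq_fintype_card, Fintype.card_fin]
    interval_cases n
    · rw [add_zero, val_prod_gl hF hq1]; omega
    · rw [Finset.prod_range_succ, Nat.factorization_mul
        (Finset.prod_ne_zero_iff.2 fun i _ => pow_sub_one_ne hq1 i) (pow_sub_one_ne hq1 _), Finsupp.add_apply,
        val_prod_gl hF hq1, val_odd hF hq1, one_smul]
      omega) ⊤ fun _ => mem_top _) e' P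

/-- the 2-rank of `GL_n` -/
theorem card_le_gl (h2 : (2 : F) ≠ 0) {n : ℕ} {A : Type*} [Group A] [Finite A] (f : A →* GL (Fin n) F)
    (hf : Function.Injective f) (h : ∀ a : A, a ^ 2 = 1) : Nat.card A ≤ 2 ^ n := by
  have hc := (ea_of_sq (A := (⊤ : Subgroup A)) fun a _ => h a).1
  have hc' : ∀ a b : A, a * b = b * a := fun a b =>
    congrArg Subtype.val (hc.1.1 ⟨a, mem_top a⟩ ⟨b, mem_top b⟩)
  obtain ⟨b, c, hc⟩ := Inv2.exists_eigenbasis_gl h2 (A := A) (n := n)
    (ρ := fun a => (Forms.glEquiv (f a)).toLinearMap)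
    (fun a a' x => by
      simp only [LinearEquiv.coe_coe, ← LinearEquiv.mul_apply, ← map_mul, hc' a a'])
    (fun a x => by
      rw [LinearEquiv.coe_coe, ← LinearEquiv.mul_apply, ← map_mul, ← map_mul, ← pow_two, h a]
      simp) (by simp)
  refine (Nat.card_le_card_of_injective c fun a a' e => ?_).trans_eq (by simp)
  exact hf (Forms.glEquiv.injective (LinearEquiv.toLinearMap_injective
    (b.ext fun i => by rw [hc, hc, e])))

theorem card_sq_le {C : Type*} [Group C] [Finite C] (f : C →* Fˣ) (hf : Function.Injective f)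
    {n : ℕ} (M : Subgroup (Fin n → C)) (h : ∀ x ∈ M, x ^ 2 = 1) (h2 : (2 : F) ≠ 0) :
    Nat.card M ≤ 2 ^ n :=
  card_le_gl h2 ((dg n F).comp ((f.compLeft _).comp M.subtype))
    (dg_injective.comp (hf.comp_left.comp Subtype.val_injective)) fun a => Subtype.ext (h a a.2)

theorem exists_neg (h2 : (2 : F) ≠ 0) (C : Sylow 2 Fˣ) (n : ℕ) :
    ∃ M : Subgroup (Fin n → (C : Subgroup Fˣ)), M.Normal ∧ (∀ x ∈ M, x ^ 2 = 1) ∧ Nat.card M = 2 ^ n := by
  have hc : (-1 : Fˣ) ∈ (C : Subgroup Fˣ) := mem_sylow_of_pow C (k := 1) (by simp)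
  have ho : orderOf (⟨-1, hc⟩ : (C : Subgroup Fˣ)) = 2 := orderOf_eq_prime (Subtype.ext (by simp)) fun e => by
    have : (-1 : F) = 1 := congrArg (fun x : (C : Subgroup Fˣ) => ((x : Fˣ) : F)) e
    exact h2 (by linear_combination -this)
  refine ⟨(zpowers (⟨-1, hc⟩ : (C : Subgroup Fˣ))).subtype.compLeft (Fin n) |>.range, inferInstance, ?_, ?_⟩
  · rintro _ ⟨x, rfl⟩
    rw [← map_pow, show x ^ 2 = 1 from funext fun i => by
      have := pow_card_eq_one' (x := x i); rwa [Nat.card_zpowers, ho] at this, map_one]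
  · rw [← Nat.card_congr (MonoidHom.ofInjective Subtype.val_injective.comp_left).toEquiv, Nat.card_fun,
      Nat.card_zpowers, ho]
    simp

theorem exists_central {D : Type*} [Group D] [Finite D] [Nontrivial D] (hD : IsPGroup 2 D) :
    ∃ N : Subgroup D, N.Normal ∧ (∀ x ∈ N, x ^ 2 = 1) ∧ Nat.card N = 2 := by
  have := hD.center_nontrivial
  obtain ⟨k, hk, hc⟩ := (hD.to_subgroup (center D)).nontrivial_iff_card.1 this
  obtain ⟨z, hz⟩ := exists_prime_orderOf_dvd_card' (G := center D) 2 (hc ▸ dvd_pow_self 2 hk.ne')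
  have hz' : orderOf (z : D) = 2 := by rw [orderOf_coe, hz]
  refine ⟨zpowers (z : D), ⟨fun a ha g => ?_⟩, fun x hx => ?_, by rw [Nat.card_zpowers, hz']⟩
  · rwa [mem_center_iff.1 (zpowers_le.2 z.2 ha) g, mul_inv_cancel_right]
  · exact orderOf_dvd_iff_pow_eq_one.1 (hz' ▸ orderOf_dvd_of_mem_zpowers hx)

theorem qd_normal {D : Type*} [Group D] [Finite D] (hD : Cfsg.IsQuasiDihedral D) :
    (∃ d : D, d ^ 2 ≠ 1) ∧ ∀ N : Subgroup D, N.Normal → (∀ x ∈ N, x ^ 2 = 1) → Nat.card N ≤ 2 := by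
  obtain ⟨k, x, y, h⟩ := TwoGrp.exists_isQD_top hD
  have hk := h.kpos
  refine ⟨⟨x ^ (2 * k : ℤ), by rw [pow_two, h.w_mul_w]; exact h.z_ne_one⟩, fun N hN h2 => ?_⟩
  have : N ≤ zpowers (x ^ (4 * k : ℤ)) := by
    intro g hg
    obtain ⟨i, rfl | rfl⟩ := (h.mem g).1 (mem_top g)
    · rcases h.eq_of_sq_eq_one (by rw [← pow_two, h2 _ hg]) with e | e <;> rw [e]
      exacts [one_mem _, mem_zpowers _]
    · have h3 := hN.conj_mem _ hg (x ^ (-1 : ℤ))
      rw [h.xpow_conj_xpowy, TwoGrp.IsQD.xpowy_mem_iff hg] at h3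
      have h4 := h2 _ (h.xsq_mem_of (H := N) (by convert h3 using 2; ring))
      rw [pow_two, ← _root_.zpow_add, h.eq_one_iff] at h4
      have := Int.le_of_dvd (by norm_num) h4
      omega
  exact (card_le_of_le this).trans_eq (by rw [Nat.card_zpowers, h.orderOf_z])

theorem sl2_not_comm [Fintype F] (hF : Odd (Fintype.card F)) (Q : Sylow 2 SL(2, F)) :
    derivedSeries (Q : Subgroup SL(2, F)) 1 ≠ ⊥ := by
  obtain ⟨k, hk, ⟨e⟩⟩ := Classical.sl2_sylow_two_quaternion hF Q
  refine BF.der_ne_bot_of_injective (f := e.symm.toMonoidHom) e.symm.injective fun h => ?_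
  rw [derivedSeries_one, _root_.commutator, commutator_eq_bot_iff_le_centralizer] at h
  have h1 := h (mem_top (QuaternionGroup.a 1)) (QuaternionGroup.xa 0) (mem_top _)
  simp only [QuaternionGroup.xa_mul_a, QuaternionGroup.a_mul_xa, QuaternionGroup.xa.injEq] at h1
  have h2 : ((2 : ℕ) : ZMod (2 * 2 ^ k)) = 0 := by push_cast; linear_combination h1
  have h3 := Nat.le_of_dvd two_pos ((ZMod.natCast_eq_zero_iff _ _).1 h2)
  have : 2 ≤ 2 ^ k := Nat.le_self_pow (by omega) 2
  omega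

end CfsgLib.SylWr
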